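import Groth.Agent.Dual3Lib.TopTraceShift
import Groth.Agent.Dual3Lib.EvalSpec
import Groth.Agent.FibVanLib.Affine
import Groth.Agent.HensSchLib.Flat
import Groth.Agent.DCohRestrLib.MV
import Groth.Agent.S1766
import Groth.Agent.S1767
import Groth.Agent.MiscFlat6.TopDimCovers

/-!
# The dualizing pair of a proper morphism to an affine scheme with fibres of dimension at most `n`
-/

set_option autoImplicit false
set_option linter.style.haveILetI false
set_option backward.isDefEq.respectTransparency false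
set_option backward.isDefEq.respectTransparency.types false
set_option maxHeartbeats 1000000
set_option synthInstance.maxHeartbeats 200000

universe u

open CategoryTheory CategoryTheory.Limits AlgebraicGeometry DerivedCategory

attribute [local instance] HasDerivedCategory.standard

noncomputable section

namespace Groth.Agent.ProperTraceLib

variable {A : Type u} [CommRing A] [PreservesFiniteLimits (tilde.functor (CommRingCat.of A))]
  {X : Scheme.{u}} [X.Over (Spec (CommRingCat.of A))] [IsProper (X ↘ Spec (CommRingCat.of A))]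
  [DCoh.HasRpush (X ↘ Spec (CommRingCat.of A))]

theorem isGE_rightAdjoint_of_vanishing (hf : DCoh.RpushPreservesQCoh (X ↘ Spec (CommRingCat.of A)))
    (a : DCoh.DQCoh (Spec (CommRingCat.of A)) ⥤ DCoh.DQCoh X)
    (adj : DCoh.RpushQ (X ↘ Spec (CommRingCat.of A)) hf ⊣ a) (W : DCoh.DQCoh (Spec (CommRingCat.of A)))
    {ω : DerivedCategory (ModuleCat.{u} A)} (eW : W.obj ≅ (DCoh.tildeD (CommRingCat.of A)).obj ω)
    (m : ℤ) [ω.IsGE m] [W.obj.IsGE m] (d : ℕ)
    (hv : ∀ F : X.Modules, Coh.IsQCoh F → ∀ j : ℕ, d < j → Subsingleton (Coh.HH X F j)) :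
    (a.obj W).obj.IsGE (m - d) := by
  haveI : CompactSpace X := QuasiCompact.compactSpace_of_compactSpace (X ↘ Spec (CommRingCat.of A))
  haveI : QuasiSeparatedSpace X :=
    quasiSeparatedSpace_of_quasiSeparated (X ↘ Spec (CommRingCat.of A))
  obtain ⟨N, hN⟩ := Groth.Agent.S1767.result X (Spec (CommRingCat.of A)) (X ↘ Spec (CommRingCat.of A)) hf a adj
  have hstart : (a.obj W).obj.IsGE (m - 1 - N) := (isGE_iff _ _).2 fun i hi =>
    hN W (m - 1) (fun j hj => isZero_of_isGE W.obj m j (by omega)) i (by omega)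
  suffices h : ∀ k : ℕ, m - 1 - N + k ≤ m - d → (a.obj W).obj.IsGE (m - 1 - N + k) by
    by_cases hle : m - 1 - N ≤ m - d
    · have := h (m - d - (m - 1 - N)).toNat (by omega)
      rwa [show m - 1 - N + ((m - d - (m - 1 - N)).toNat : ℤ) = m - d by omega] at this
    · exact TStructure.t.isGE_of_ge _ (m - d) (m - 1 - N) (by omega)
  intro k
  induction k with
  | zero => intro _; simpa using hstart
  | succ k ih =>
    intro hk
    haveI hge := ih (by omega)
    let c := m - 1 - N + (k : ℤ)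
    haveI : ω.IsGE (c + d) := TStructure.t.isGE_of_ge _ (c + d) m (by omega)
    obtain ⟨t, ht⟩ := Dual3Lib.exists_trace hf a adj d (c + d) c (by omega) W eW hge
    have hz : Subsingleton ((homologyFunctor (ModuleCat.{u} A) (c + d)).obj ω) :=
      ModuleCat.subsingleton_of_isZero (isZero_of_isGE ω m _ (by omega))
    have hG : Coh.IsQCoh (DCoh.HD (a.obj W).obj c) := (a.obj W).property _
    obtain ⟨φ, -, huniq⟩ := ht _ hG (fun j hj => hv _ hG j hj) 0
    have h0 : IsZero (DCoh.HD (a.obj W).obj c) := (IsZero.iff_id_eq_zero _).2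
      ((huniq (𝟙 _) fun x => Subsingleton.elim _ _).trans (huniq 0 fun x => Subsingleton.elim _ _).symm)
    refine (isGE_iff _ _).2 fun i hi => ?_
    rcases eq_or_ne i c with rfl | hne
    · exact h0
    · exact isZero_of_isGE _ c i (by omega)

variable (A X) in
omit [PreservesFiniteLimits (tilde.functor (CommRingCat.of A))] [DCoh.HasRpush (X ↘ Spec (CommRingCat.of A))] in
/-- **The dualizing pair.** -/
theorem exists_dualizing_pair (n : ℕ)
    (hd : ∀ y, topologicalKrullDim ↥((X ↘ Spec (CommRingCat.of A)).fiber y) ≤ (n : WithBot ℕ∞)) :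
    ∃ ω : X.Modules, Coh.IsQCoh ω ∧ ∃ γ : Coh.HH X ω n →ₗ[A] A, ∀ F : X.Modules, Coh.IsQCoh F →
      ∀ g : Coh.HH X F n →ₗ[A] A, ∃! φ : F ⟶ ω,
        ∀ x : Coh.HH X F n, g x = γ (Sheaf.H.map ((SheafOfModules.toSheaf X.ringCatSheaf).map φ) n x) := by
  haveI : PreservesFiniteLimits (tilde.functor (CommRingCat.of A)) := HensSchLib.tilde_preservesFiniteLimits _
  let f := X ↘ Spec (CommRingCat.of A)
  haveI : CompactSpace X := QuasiCompact.compactSpace_of_compactSpace f
  haveI : QuasiSeparatedSpace X := quasiSeparatedSpace_of_quasiSeparated f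
  haveI : DCoh.HasRpush f := DCohRestrLib.hasRpush f
  have hf : DCoh.RpushPreservesQCoh f := fun K hK => QRlimLib.isQCohD_rpush f hK
  haveI := Groth.Agent.S1766.result X (Spec (CommRingCat.of A)) f hf
  let O : DCoh.DQCoh (Spec (CommRingCat.of A)) :=
    ⟨DCoh.inD _ (Coh.structureModule _), PerfBaseLib.isQCohD_inD _ QCohLib.isQCoh_unit⟩
  let F := DCoh.RpushQ f hf
  let adj := Adjunction.ofIsLeftAdjoint F
  have hv : ∀ G : X.Modules, Coh.IsQCoh G → ∀ j : ℕ, n < j → Subsingleton (Coh.HH X G j) := fun G hG j hj => by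
    haveI := hG
    exact FibVanLib.subsingleton_HH_affine f n hd G j hj
  haveI : (Dual.inD A A).IsGE 0 := inferInstanceAs (((singleFunctor (ModuleCat.{u} A) 0).obj _).IsGE 0)
  haveI : O.obj.IsGE 0 := inferInstanceAs (((singleFunctor (Spec (CommRingCat.of A)).Modules 0).obj _).IsGE 0)
  have hge := isGE_rightAdjoint_of_vanishing hf _ adj O (ω := Dual.inD A A) Dual3Lib.inDSpecIso.symm 0 n hv
  rw [zero_sub] at hge
  obtain ⟨t, ht⟩ := Dual3Lib.exists_trace hf _ adj n 0 (-(n : ℤ)) (by omega) O (ω := Dual.inD A A)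
    Dual3Lib.inDSpecIso.symm hge
  let β : (homologyFunctor (ModuleCat.{u} A) 0).obj (Dual.inD A A) ≃ₗ[A] A :=
    ((singleFunctorCompHomologyFunctorIso (ModuleCat.{u} A) 0).app (ModuleCat.of A A)).toLinearEquiv
  refine ⟨DCoh.HD (F.rightAdjoint.obj O).obj (-(n : ℤ)), (F.rightAdjoint.obj O).property _,
    β.toLinearMap.comp t, fun G hG g => ?_⟩
  obtain ⟨φ, hφ, huniq⟩ := ht G hG (fun j hj => hv G hG j hj) (β.symm.toLinearMap.comp g)
  exact ⟨φ, fun x => β.symm_apply_eq.1 (hφ x), fun φ' hφ' => huniq φ' fun x => β.symm_apply_eq.2 (hφ' x)⟩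

omit [PreservesFiniteLimits (tilde.functor (CommRingCat.of A))] [IsProper (X ↘ Spec (CommRingCat.of A))]
  [DCoh.HasRpush (X ↘ Spec (CommRingCat.of A))] in
theorem fiber_dim_le (n : ℕ)
    (hd : ∀ (y : ↥(Spec (CommRingCat.of A))) (Z : Set ↥((X ↘ Spec (CommRingCat.of A)).fiber y)),
      Z ∈ irreducibleComponents ↥((X ↘ Spec (CommRingCat.of A)).fiber y) → topologicalKrullDim ↥Z = (n : WithBot ℕ∞))
    (y : ↥(Spec (CommRingCat.of A))) :
    topologicalKrullDim ↥((X ↘ Spec (CommRingCat.of A)).fiber y) ≤ (n : WithBot ℕ∞) := by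
  rw [MiscFlat6.dim_eq_iSup_components]
  exact iSup₂_le fun Z hZ => (hd y Z hZ).le

end Groth.Agent.ProperTraceLib
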